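import Groth.Agent.SpSeqLib.RightDerived
import Groth.Agent.KInj.Derived
import Groth.Agent.KInj.Lifting
import Groth.Agent.DCohLib.Ghost

/-!
# Amplitude of derived functors on bounded objects
-/

set_option autoImplicit false
set_option linter.style.haveILetI false
set_option backward.isDefEq.respectTransparency false

universe v v' u u'

open CategoryTheory CategoryTheory.Limits Pretriangulated

attribute [local instance] HasDerivedCategory.standard

noncomputable section

namespace Groth.Agent.RBoundLib

open Groth.Agent.SpSeqLib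

variable {A : Type u} [Category.{v} A] [Abelian A] [EnoughInjectives A]
  {B : Type u'} [Category.{v'} B] [Abelian B] (S : A ⥤ B) [S.Additive]

local notation "tA" => (DerivedCategory.TStructure.t : Triangulated.TStructure (DerivedCategory A))

/-- Cohomological bound on bounded objects. -/
theorem isZero_rG_of_bound (Gd : A → Prop) (hGd : ∀ {M N : A}, (M ≅ N) → Gd M → Gd N) (N : ℕ)
    (hS : ∀ G : A, Gd G → ∀ p : ℕ, N ≤ p → IsZero ((S.rightDerived p).obj G)) :
    ∀ (k : ℕ) (Z : DerivedCategory.Plus A) (a b : ℤ), b + 1 = a + k → Z.obj.IsGE a → Z.obj.IsLE b →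
      (∀ j, a ≤ j → j ≤ b → Gd ((DerivedCategory.homologyFunctor A j).obj Z.obj)) →
      ∀ i : ℤ, b + N - 1 < i → IsZero (((rG S).shift i).obj Z) := by
  intro k
  induction k with
  | zero =>
    intro Z a b hab hge hle _ i _
    exact ((rG S).shift i).map_isZero (IsZero.of_full_of_faithful_of_isZero DerivedCategory.Plus.ι Z
      ((tA).isZero Z.obj b a (by omega)))
  | succ k ih =>
    intro Z a b hab hge hle hG i hi
    let L₀ := ((tA).truncLT b).obj Z.obj
    let R₀ := ((tA).truncGE b).obj Z.obj
    haveI hLle : L₀.IsLE (b - 1) := (tA).isLE_truncLT_obj Z.obj b (b - 1) (by omega)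
    haveI : L₀.IsGE a := (DerivedCategory.isGE_iff _ _).2 fun j hj => by
      by_cases hjb : j ≤ b - 1
      · haveI := DCohLib.isIso_homology_truncLTι Z.obj b j (by omega)
        exact (DerivedCategory.isZero_of_isGE Z.obj a j hj).of_iso
          (asIso ((DerivedCategory.homologyFunctor A j).map (((tA).truncLTι b).app Z.obj)))
      · exact DerivedCategory.isZero_of_isLE L₀ (b - 1) j (by omega)
    haveI : R₀.IsGE b := inferInstanceAs ((tA).IsGE (((tA).truncGE b).obj Z.obj) b)
    haveI : R₀.IsLE b := (DerivedCategory.isLE_iff _ _).2 fun j hj => by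
      haveI := DCohLib.isIso_homology_truncGEπ Z.obj b j hj.le
      exact (DerivedCategory.isZero_of_isLE Z.obj b j hj).of_iso
        (asIso ((DerivedCategory.homologyFunctor A j).map (((tA).truncGEπ b).app Z.obj))).symm
    let L : DerivedCategory.Plus A := ⟨L₀, a, inferInstanceAs ((tA).IsGE L₀ a)⟩
    let R : DerivedCategory.Plus A := ⟨R₀, b, inferInstanceAs ((tA).IsGE R₀ b)⟩
    let T : Triangle (DerivedCategory.Plus A) := Triangle.mk
      (ObjectProperty.homMk (((tA).truncLTι b).app Z.obj) : L ⟶ Z)
      (ObjectProperty.homMk (((tA).truncGEπ b).app Z.obj) : Z ⟶ R)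
      (ObjectProperty.homMk (((tA).truncGEδLT b).app Z.obj ≫
        ((DerivedCategory.Plus.ι (C := A)).commShiftIso (1 : ℤ)).inv.app L))
    have hT : T ∈ distTriang (DerivedCategory.Plus A) := by
      rw [← (DerivedCategory.Plus.ι (C := A)).map_distinguished_iff]
      refine isomorphic_distinguished _ ((tA).triangleLTGE_distinguished b Z.obj) _
        (Triangle.isoMk _ _ (Iso.refl _) (Iso.refl _) (Iso.refl _)
          ((Category.comp_id _).trans (Category.id_comp _).symm)
          ((Category.comp_id _).trans (Category.id_comp _).symm) ?_)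
      refine ((congrArg (_ ≫ ·) ((shiftFunctor (DerivedCategory A) (1 : ℤ)).map_id _)).trans
        (Category.comp_id _)).trans (Eq.trans ?_ (Category.id_comp _).symm)
      exact (Category.assoc _ _ _).trans ((congrArg (((tA).truncGEδLT b).app Z.obj ≫ ·)
        (((DerivedCategory.Plus.ι (C := A)).commShiftIso (1 : ℤ)).inv_hom_id_app L)).trans (Category.comp_id _))
    have hL : IsZero (((rG S).shift i).obj L) :=
      ih L a (b - 1) (by push_cast at hab; omega) inferInstance inferInstance (fun j h1 h2 => by
        haveI := DCohLib.isIso_homology_truncLTι Z.obj b j (by omega)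
        exact hGd (asIso ((DerivedCategory.homologyFunctor A j).map (((tA).truncLTι b).app Z.obj))).symm
          (hG j h1 (by omega))) i (by omega)
    have hR : IsZero (((rG S).shift i).obj R) := by
      obtain ⟨H, ⟨eR⟩⟩ := DerivedCategory.exists_iso_singleFunctor_obj_of_isGE_of_isLE R₀ b
      haveI := DCohLib.isIso_homology_truncGEπ Z.obj b b le_rfl
      have hH : Gd H := hGd (asIso ((DerivedCategory.homologyFunctor A b).map (((tA).truncGEπ b).app Z.obj)) ≪≫
        (DerivedCategory.homologyFunctor A b).mapIso eR ≪≫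
          (DerivedCategory.singleFunctorCompHomologyFunctorIso A b).app H) (hG b (by push_cast at hab; omega) le_rfl)
      refine IsZero.of_iso ?_ (((rG S).shift i).mapIso
        (DerivedCategory.Plus.ι.preimageIso (X := R) (Y := (DerivedCategory.Plus.singleFunctor A b).obj H) eR))
      obtain ⟨e⟩ := nonempty_rG_singleShift_iso S H b (i - b) i (by omega)
      refine IsZero.of_iso ?_ e
      rcases lt_or_ge (i - b) 0 with h | h
      · exact isZero_rG_single_of_neg S H _ h
      · obtain ⟨p, hp⟩ := Int.eq_ofNat_of_zero_le h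
        obtain ⟨e'⟩ := nonempty_rG_single_iso S H p
        rw [hp]
        exact (hS H hH p (by omega)).of_iso e'
    exact ((rG S).homologySequence_exact₂ T hT i).isZero_of_both_zeros
      (hL.eq_of_src _ _) (hR.eq_of_tgt _ _)

/-- The bound for the total derived functor. -/
theorem isZero_totalRightDerived (hres : ∀ K : CochainComplex A ℤ, ∃ (I : CochainComplex A ℤ) (f : K ⟶ I),
      I.IsKInjective ∧ QuasiIso f)
    [(S.mapHomotopyCategory (ComplexShape.up ℤ) ⋙ DerivedCategory.Qh).HasRightDerivedFunctor
      (HomotopyCategory.quasiIso A (ComplexShape.up ℤ))]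
    (Gd : A → Prop) (hGd : ∀ {M N : A}, (M ≅ N) → Gd M → Gd N) (N : ℕ)
    (hS : ∀ G : A, Gd G → ∀ p : ℕ, N ≤ p → IsZero ((S.rightDerived p).obj G))
    (E : DerivedCategory A) (a b : ℤ) (hab : ∀ i : ℤ, i < a ∨ b < i → IsZero ((DerivedCategory.homologyFunctor A i).obj E))
    (hE : ∀ i, Gd ((DerivedCategory.homologyFunctor A i).obj E)) (i : ℤ) (hi : i < a ∨ b + N - 1 < i) :
    IsZero ((DerivedCategory.homologyFunctor B i).obj
      (((S.mapHomotopyCategory (ComplexShape.up ℤ) ⋙ DerivedCategory.Qh).totalRightDerived DerivedCategory.Qh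
        (HomotopyCategory.quasiIso A (ComplexShape.up ℤ))).obj E)) := by
  haveI hge : E.IsGE a := (DerivedCategory.isGE_iff _ _).2 fun j hj => hab j (Or.inl hj)
  haveI hle : E.IsLE b := (DerivedCategory.isLE_iff _ _).2 fun j hj => hab j (Or.inr hj)
  let Z : DerivedCategory.Plus A := ⟨E, a, hge⟩
  haveI : Z.IsGE a := (Z.isGE_ι_obj_iff a).1 hge
  obtain ⟨L, hL, ⟨e⟩⟩ := DerivedCategory.Plus.exists_injective_nonempty_iso Z a
  let I : CochainComplex A ℤ := ((InjectiveObject.ι A).mapHomologicalComplex (ComplexShape.up ℤ)).obj L.obj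
  haveI : I.IsStrictlyGE a := inferInstance
  haveI : ∀ n, Injective (I.X n) := fun n => inferInstanceAs (Injective ((InjectiveObject.ι A).obj (L.obj.X n)))
  haveI := CochainComplex.isKInjective_of_injective I a
  let F := S.mapHomotopyCategory (ComplexShape.up ℤ) ⋙ DerivedCategory.Qh
  let RF := F.totalRightDerived DerivedCategory.Qh (HomotopyCategory.quasiIso A (ComplexShape.up ℤ))
  let α := F.totalRightDerivedUnit DerivedCategory.Qh (HomotopyCategory.quasiIso A (ComplexShape.up ℤ))
  haveI := KInj.isIso_app_of_isKInjective hres F RF α I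
  let q := HomotopyCategory.quotient A (ComplexShape.up ℤ)
  let S' := (S.mapHomologicalComplex (ComplexShape.up ℤ)).obj I
  let eE : DerivedCategory.Qh.obj (q.obj I) ≅ E :=
    (DerivedCategory.quotientCompQhIso A).app I ≪≫ DerivedCategory.Plus.ι.mapIso e
  let e₂ : (DerivedCategory.homologyFunctor B i).obj (RF.obj E) ≅ S'.homology i :=
    (DerivedCategory.homologyFunctor B i).mapIso ((RF.mapIso eE).symm ≪≫ (asIso (α.app (q.obj I))).symm ≪≫
      DerivedCategory.Qh.mapIso ((S.mapHomotopyCategoryFactors (ComplexShape.up ℤ)).app I) ≪≫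
      (DerivedCategory.quotientCompQhIso B).app S') ≪≫
      (DerivedCategory.homologyFunctorFactors B i).app S'
  refine IsZero.of_iso ?_ e₂
  rcases lt_or_ge i a with hia | hia
  · rw [← HomologicalComplex.exactAt_iff_isZero_homology]
    exact ShortComplex.exact_of_isZero_X₂ _ (S.map_isZero (CochainComplex.isZero_of_isStrictlyGE I a i hia))
  refine IsZero.of_iso ?_ ((rGInjIso S L i).symm ≪≫ ((rG S).shift i).mapIso e)
  rcases le_or_gt a (b + 1) with h | h
  · obtain ⟨k, hk⟩ : ∃ k : ℕ, b + 1 = a + k := ⟨(b + 1 - a).toNat, by omega⟩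
    exact isZero_rG_of_bound S Gd hGd N hS k Z a b hk hge hle (fun j _ _ => hE j) i (by omega)
  · exact ((rG S).shift i).map_isZero (IsZero.of_full_of_faithful_of_isZero DerivedCategory.Plus.ι Z
      ((tA).isZero Z.obj b a (by omega)))

end Groth.Agent.RBoundLib
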