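import Groth.Agent.SerreDerLib.Main
import Groth.Agent.S0014
import Groth.Agent.QCohLib.Coherent
import Groth.Agent.AmpleEmb.Generated
import Groth.Agent.FormalSysLib.Sections
import Groth.Agent.PullbackMod.Hom
import Groth.Prelude.Def_DCoh2
import Mathlib.CategoryTheory.Preadditive.LeftExact

/-!
# `D⁻(Coh) ⟶ D⁻_Coh(QCoh)`
-/

set_option autoImplicit false
set_option linter.style.haveILetI false
set_option backward.isDefEq.respectTransparency false

universe u

open CategoryTheory CategoryTheory.Limits AlgebraicGeometry TopologicalSpace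
open scoped ZeroObject

attribute [local instance] HasDerivedCategory.standard

noncomputable section

namespace Groth.Agent.SerreDerLib

variable {X : Scheme.{u}}

/-- A coherent submodule mapping onto a coherent quotient. -/
theorem exists_coh_sub [IsNoetherian X] {M N : X.Modules} (π : M ⟶ N) [Epi π] (hM : Coh.IsQCoh M) (hN : Coh.IsCoh N) :
    ∃ (E : X.Modules) (i : E ⟶ M), Mono i ∧ Coh.IsCoh E ∧ Epi (i ≫ π) := by
  classical
  haveI := hM
  haveI : Coh.IsQCoh N := hN.1
  obtain ⟨t, ht⟩ := isCompact_univ.elim_finite_subcover (fun W : X.affineOpens => ((W : X.Opens) : Set X))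
    (fun W => W.1.2) fun x _ => by
      obtain ⟨_, ⟨U, hU, rfl⟩, hx, -⟩ :=
        X.isBasis_affineOpens.exists_subset_of_mem_open (Set.mem_univ x) isOpen_univ
      exact Set.mem_iUnion.2 ⟨⟨U, hU⟩, hx⟩
  choose G hG using fun W : X.affineOpens => (QCohLib.finite_sections_of_isCoh hN W.2).fg_top
  choose l hl using fun (W : X.affineOpens) (g : G W) =>
    FormalSys.app_surjective_of_epi π hM hN.1 W.2 g.1
  obtain ⟨E, i, hi, hE, hEft, hs⟩ := Groth.Agent.S0014.exists_ft_through M (κ := Σ W : t, G W.1)
    (fun k => (k.1.1 : X.Opens)) (fun k => k.1.1.2) fun k => l k.1.1 k.2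
  refine ⟨E, i, hi, ⟨hE, hEft⟩, (PullbackMod.epi_iff_stalk _).2 fun x => ?_⟩
  obtain ⟨W, hW, hx⟩ := Set.mem_iUnion₂.1 (ht (Set.mem_univ x))
  rw [← LinearMap.range_eq_top, eq_top_iff, ← AmpleEmb.span_germ_eq_top N W.2 hx (hG W), Submodule.span_le]
  rintro _ ⟨g, hg, rfl⟩
  obtain ⟨e, he⟩ := hs ⟨⟨W, hW⟩, ⟨g, hg⟩⟩
  refine ⟨E.presheaf.germ (W : X.Opens) x hx e, (PullbackMod.stalkLin_germ (i ≫ π) (U := (W : X.Opens)) x hx e).trans ?_⟩
  refine congrArg (N.presheaf.germ (W : X.Opens) x hx) ?_
  show π.app _ (i.app _ e) = g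
  rw [he, hl]

section

variable (X)

/-- Quasi-coherent modules. -/
abbrev qcP : ObjectProperty X.Modules := fun M => Coh.IsQCoh M

/-- Coherent modules. -/
abbrev cP : ObjectProperty X.Modules := fun M => Coh.IsCoh M

/-- Coherent modules among quasi-coherent ones. -/
abbrev cohP : ObjectProperty (qcP X).FullSubcategory := fun M => Coh.IsCoh M.obj

variable [IsNoetherian X] [(qcP X).ContainsZero] [(qcP X).IsClosedUnderKernels]
  [(qcP X).IsClosedUnderCokernels] [(qcP X).IsClosedUnderFiniteProducts]

instance : PreservesFiniteLimits (qcP X).ι :=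
  haveI := fun {A B : (qcP X).FullSubcategory} (f : A ⟶ B) => (qcP X).preservesKernels_ι f
  Functor.preservesFiniteLimits_of_preservesKernels _

instance : PreservesFiniteColimits (qcP X).ι :=
  haveI := fun {A B : (qcP X).FullSubcategory} (f : A ⟶ B) => (qcP X).preservesCokernels_ι f
  Functor.preservesFiniteColimits_of_preservesCokernels _

variable [(cP X).ContainsZero] [(cP X).IsClosedUnderKernels] [(cP X).IsClosedUnderCokernels]
  [(cP X).IsClosedUnderFiniteProducts]

instance : (cohP X).IsSerreClass where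
  exists_zero := ⟨0, isZero_zero _,
    QCohLib.isCoh_of_mono (((qcP X).ι.map_isZero (isZero_zero _)).iso
      (cP X).exists_prop_of_containsZero.choose_spec.1).hom (cP X).exists_prop_of_containsZero.choose_spec.2
      (0 : (qcP X).FullSubcategory).property⟩
  prop_of_mono {A B} f _ hB :=
    haveI : Mono ((qcP X).ι.map f) := inferInstance
    QCohLib.isCoh_of_mono ((qcP X).ι.map f) hB A.property
  prop_of_epi {A B} f _ hA := by
    haveI : Epi ((qcP X).ι.map f) := inferInstance
    haveI : Coh.IsQCoh B.obj := B.property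
    refine QCohLib.isCoh_of_finite B.obj fun W hW => ?_
    haveI : Module.Finite Γ(X, W) Γ((qcP X).ι.obj A, W) := QCohLib.finite_sections_of_isCoh hA hW
    exact Module.Finite.of_surjective (QCohLib.appLinear ((qcP X).ι.map f) W)
      (FormalSys.app_surjective_of_epi ((qcP X).ι.map f) A.property B.property hW)
  prop_X₂_of_shortExact {S} hS h₁ h₃ := QCohLib.isCoh_X₂ (hS.map_of_exact (qcP X).ι) h₁ h₃

instance : (cohP X).IsClosedUnderFiniteProducts where
  isClosedUnderLimitsOfShape J _ := by
    constructor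
    rintro M ⟨pr⟩
    exact (cP X).prop_of_isLimit (isLimitOfPreserves (qcP X).ι pr.isLimit) fun j => pr.prop_diag_obj j

variable [PreservesFiniteLimits ((qcP X).lift (cP X).ι fun M => M.property.1)]
  [PreservesFiniteColimits ((qcP X).lift (cP X).ι fun M => M.property.1)]

theorem cohQCoh :
    (∀ (M N : DerivedCategory (cP X).FullSubcategory) (b : ℤ), M.IsLE b → N.IsLE b →
      Function.Bijective (fun φ : M ⟶ N => ((qcP X).lift (cP X).ι fun M => M.property.1).mapDerivedCategory.map φ)) ∧
    ∀ (K : DerivedCategory (qcP X).FullSubcategory) (b : ℤ), K.IsLE b →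
      (∀ i : ℤ, Coh.IsCoh ((DerivedCategory.homologyFunctor (qcP X).FullSubcategory i).obj K).obj) →
      ∃ M : DerivedCategory (cP X).FullSubcategory, M.IsLE b ∧
        Nonempty (((qcP X).lift (cP X).ι fun M => M.property.1).mapDerivedCategory.obj M ≅ K) :=
  derivedMinus (P := cohP X) _ (fun M => M.property)
    (fun M hM => ⟨⟨M.obj, hM⟩, ⟨Iso.refl _⟩⟩) fun A B π hπ hB => by
      haveI := hπ
      haveI : Epi ((qcP X).ι.map π) := inferInstance
      obtain ⟨E, i, hi, hE, he⟩ := exists_coh_sub ((qcP X).ι.map π) A.property hB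
      exact ⟨⟨E, hE.1⟩, ObjectProperty.homMk i, (qcP X).ι.mono_of_mono_map hi, hE,
        (qcP X).ι.epi_of_epi_map he⟩

end

end Groth.Agent.SerreDerLib
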