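import Groth.Agent.SerreDerLib.Plus
import Groth.Agent.SerreDerLib.CohQCoh
import Groth.Agent.DCohLib.QCohAbelian
import Groth.Agent.S7445
import Groth.Agent.S7769
import Groth.Agent.DCohLib.Ghost

/-!
# `D^b(Coh)` and `D^b_Coh(X)`
-/

set_option autoImplicit false
set_option linter.style.haveILetI false
set_option backward.isDefEq.respectTransparency false

universe u

open CategoryTheory CategoryTheory.Limits AlgebraicGeometry TopologicalSpace
open CategoryTheory.Pretriangulated
open scoped ZeroObject

attribute [local instance] HasDerivedCategory.standard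

noncomputable section

namespace Groth.Agent.SerreDerLib

section Induction

variable {A : Type*} [Category A] [Abelian A] [HasDerivedCategory A] {B : Type*} [Category B] [Abelian B]
  [HasDerivedCategory B] (F : B ⥤ A) [F.Additive] [PreservesFiniteLimits F] [PreservesFiniteColimits F]

/-- Bounded objects with cohomology in the image are in the image. -/
theorem exists_bounded_preimage
    (hff : ∀ (M N : DerivedCategory B) (a b : ℤ), M.IsGE a → M.IsLE b → N.IsGE a → N.IsLE b →
      Function.Bijective fun φ : M ⟶ N => F.mapDerivedCategory.map φ) :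
    ∀ (k : ℕ) (K : DerivedCategory A) (a b : ℤ), b + 1 = a + k → K.IsGE a → K.IsLE b →
      (∀ i, ∃ H : B, Nonempty (F.obj H ≅ (DerivedCategory.homologyFunctor A i).obj K)) →
      ∃ M : DerivedCategory B, M.IsGE a ∧ M.IsLE b ∧ Nonempty (F.mapDerivedCategory.obj M ≅ K) := by
  intro k
  induction k with
  | zero =>
    intro K a b hab hge hle _
    refine ⟨0, DerivedCategory.TStructure.t.isGE_of_isZero (isZero_zero _) a,
      DerivedCategory.TStructure.t.isLE_of_isZero (isZero_zero _) b,
      ⟨(F.mapDerivedCategory.map_isZero (isZero_zero _)).iso ?_⟩⟩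
    exact DerivedCategory.TStructure.t.isZero K b a (by omega)
  | succ k ih =>
    intro K a b hab hge hle hH
    let t := (DerivedCategory.TStructure.t : Triangulated.TStructure (DerivedCategory A))
    let L := (t.truncLT b).obj K
    let R := (t.truncGE b).obj K
    haveI hLle : L.IsLE (b - 1) := t.isLE_truncLT_obj K b (b - 1) (by omega)
    haveI : L.IsGE a := (DerivedCategory.isGE_iff _ _).2 fun i hi => by
      by_cases hib : i ≤ b - 1
      · haveI := DCohLib.isIso_homology_truncLTι K b i (by omega)
        exact (DerivedCategory.isZero_of_isGE K a i hi).of_iso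
          (asIso ((DerivedCategory.homologyFunctor A i).map ((t.truncLTι b).app K)))
      · exact DerivedCategory.isZero_of_isLE L (b - 1) i (by omega)
    haveI : R.IsGE b := inferInstanceAs (t.IsGE ((t.truncGE b).obj K) b)
    haveI : R.IsLE b := (DerivedCategory.isLE_iff _ _).2 fun i hi => by
      haveI := DCohLib.isIso_homology_truncGEπ K b i hi.le
      exact (DerivedCategory.isZero_of_isLE K b i hi).of_iso
        (asIso ((DerivedCategory.homologyFunctor A i).map ((t.truncGEπ b).app K))).symm
    obtain ⟨ML, hMLge, hMLle, ⟨eL⟩⟩ := ih L a (b - 1) (by push_cast at hab; omega) inferInstance inferInstance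
      fun i => by
        by_cases hib : i ≤ b - 1
        · haveI := DCohLib.isIso_homology_truncLTι K b i (by omega)
          obtain ⟨H, ⟨e⟩⟩ := hH i
          exact ⟨H, ⟨e ≪≫ (asIso ((DerivedCategory.homologyFunctor A i).map ((t.truncLTι b).app K))).symm⟩⟩
        · exact ⟨0, ⟨(F.map_isZero (isZero_zero _)).iso (DerivedCategory.isZero_of_isLE L (b - 1) i (by omega))⟩⟩
    obtain ⟨H, ⟨eH⟩⟩ := hH b
    obtain ⟨H', ⟨eR⟩⟩ := DerivedCategory.exists_iso_singleFunctor_obj_of_isGE_of_isLE R b
    haveI := DCohLib.isIso_homology_truncGEπ K b b le_rfl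
    let g : F.obj H ≅ H' := eH ≪≫
      asIso ((DerivedCategory.homologyFunctor A b).map ((t.truncGEπ b).app K)) ≪≫
        (DerivedCategory.homologyFunctor A b).mapIso eR ≪≫
          (DerivedCategory.singleFunctorCompHomologyFunctorIso A b).app H'
    let MR := (DerivedCategory.singleFunctor B b).obj H
    let eMR : F.mapDerivedCategory.obj MR ≅ R :=
      (F.mapDerivedCategorySingleFunctor b).app H ≪≫ (DerivedCategory.singleFunctor A b).mapIso g ≪≫ eR.symm
    have hT := inv_rot_of_distTriang _ (t.triangleLTGE_distinguished b K)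
    haveI hMRle : MR.IsLE b := inferInstance
    haveI hMRge : MR.IsGE b := inferInstance
    haveI := hMLge
    haveI := hMLle
    let e₁ : F.mapDerivedCategory.obj (MR⟦(-1 : ℤ)⟧) ≅ R⟦(-1 : ℤ)⟧ :=
      (F.mapDerivedCategory.commShiftIso (-1 : ℤ)).app MR ≪≫ (shiftFunctor _ (-1 : ℤ)).mapIso eMR
    haveI := DerivedCategory.TStructure.t.isGE_shift MR b (-1) (b + 1) (by omega)
    haveI hMRa : MR.IsGE a := DerivedCategory.TStructure.t.isGE_of_ge MR a b (by push_cast at hab; omega)
    obtain ⟨u, hu⟩ := (hff (MR⟦(-1 : ℤ)⟧) ML a (b + 1)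
      (DerivedCategory.TStructure.t.isGE_of_ge _ a (b + 1) (by push_cast at hab; omega))
      (DerivedCategory.TStructure.t.isLE_shift MR b (-1) (b + 1) (by omega)) hMLge
      (DerivedCategory.TStructure.t.isLE_of_le ML (b - 1) (b + 1) (by omega))).2
      (e₁.hom ≫ (t.triangleLTGE b |>.obj K).invRotate.mor₁ ≫ eL.inv)
    obtain ⟨M, v, w, hM⟩ := distinguished_cocone_triangle u
    have hM' := rot_of_distTriang _ hM
    refine ⟨M, DerivedCategory.TStructure.t.isGE₂ _ hM' a hMLge ?_, DerivedCategory.TStructure.t.isLE₂ _ hM' b ?_ ?_,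
      ⟨Triangle.π₃.mapIso (isoTriangleOfIso₁₂ _ _ (F.mapDerivedCategory.map_distinguished _ hM) hT e₁ eL
        (by
          show F.mapDerivedCategory.map u ≫ eL.hom = e₁.hom ≫ _
          exact ((congrArg (· ≫ eL.hom) hu).trans (by simp))))⟩⟩
    · haveI : DerivedCategory.TStructure.t.IsGE ((𝟭 (DerivedCategory B)).obj MR) a := hMRa
      exact DerivedCategory.TStructure.t.isGE_of_iso
        (((shiftFunctorCompIsoId (DerivedCategory B) (-1 : ℤ) 1 (by omega)).app MR).symm) a
    · exact DerivedCategory.TStructure.t.isLE_of_le ML (b - 1) b (by omega)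
    · haveI : DerivedCategory.TStructure.t.IsLE ((𝟭 (DerivedCategory B)).obj MR) b := hMRle
      exact DerivedCategory.TStructure.t.isLE_of_iso
        (((shiftFunctorCompIsoId (DerivedCategory B) (-1 : ℤ) 1 (by omega)).app MR).symm) b

end Induction

variable (X : Scheme.{u}) [IsNoetherian X] [(cP X).ContainsZero] [(cP X).IsClosedUnderKernels]
  [(cP X).IsClosedUnderCokernels] [(cP X).IsClosedUnderFiniteProducts]
  [PreservesFiniteLimits (cP X).ι] [PreservesFiniteColimits (cP X).ι]

theorem cohMod :
    (∀ (M N : DerivedCategory (cP X).FullSubcategory) (a b : ℤ), M.IsGE a → M.IsLE b → N.IsGE a → N.IsLE b →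
      Function.Bijective (fun φ : M ⟶ N => (cP X).ι.mapDerivedCategory.map φ)) ∧
    ∀ (K : DCoh.D X) (a b : ℤ), K.IsGE a → K.IsLE b → DCoh.IsCohD K →
      ∃ M : DerivedCategory (cP X).FullSubcategory, M.IsGE a ∧ M.IsLE b ∧
        Nonempty ((cP X).ι.mapDerivedCategory.obj M ≅ K) := by
  haveI : (qcP X).ContainsZero := inferInstanceAs ((QCohCat.isQCoh X).ContainsZero)
  haveI : (qcP X).IsClosedUnderKernels := inferInstanceAs ((QCohCat.isQCoh X).IsClosedUnderKernels)
  haveI : (qcP X).IsClosedUnderCokernels := inferInstanceAs ((QCohCat.isQCoh X).IsClosedUnderCokernels)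
  haveI : (qcP X).IsClosedUnderFiniteProducts := inferInstanceAs ((QCohCat.isQCoh X).IsClosedUnderFiniteProducts)
  let Lf := (qcP X).lift (cP X).ι fun M => M.property.1
  let q := (qcP X).ι
  haveI : PreservesFiniteLimits (Lf ⋙ q) := inferInstanceAs (PreservesFiniteLimits (cP X).ι)
  haveI : PreservesFiniteColimits (Lf ⋙ q) := inferInstanceAs (PreservesFiniteColimits (cP X).ι)
  haveI : PreservesFiniteLimits Lf := ⟨fun J _ _ => by
    haveI : ReflectsLimitsOfShape J q := reflectsLimitsOfShape_of_reflectsIsomorphisms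
    exact preservesLimitsOfShape_of_reflects_of_preserves Lf q⟩
  haveI : PreservesFiniteColimits Lf := ⟨fun J _ _ => by
    haveI : ReflectsColimitsOfShape J q := reflectsColimitsOfShape_of_reflectsIsomorphisms
    exact preservesColimitsOfShape_of_reflects_of_preserves Lf q⟩
  haveI : EnoughInjectives (qcP X).FullSubcategory := Groth.Agent.S7445.result X
  haveI : Lf.Additive := inferInstance
  let eq := FibDescLib.mapDerivedCompIso Lf q
  have hff : ∀ (M N : DerivedCategory (cP X).FullSubcategory) (a b : ℤ), M.IsGE a → M.IsLE b → N.IsGE a → N.IsLE b →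
      Function.Bijective (fun φ : M ⟶ N => (cP X).ι.mapDerivedCategory.map φ) := fun M N a b _ hMb hNa hNb => by
    refine (FibDescLib.bijective_map_congr eq M N).2 ?_
    obtain ⟨N', ⟨eN⟩⟩ := FibDescLib.exists_plus_mapDerived Lf ⟨N, a, hNa⟩
    obtain ⟨c, hc⟩ := N'.property
    haveI : N'.obj.IsGE c := hc
    have hq := bijective_mapDerived_of_injectives q (fun J hJ => Groth.Agent.S7769.result X J hJ)
      (Lf.mapDerivedCategory.obj M) (Lf.mapDerivedCategory.obj N) c
      (DerivedCategory.TStructure.t.isGE_of_iso eN.symm c)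
    exact hq.comp ((cohQCoh X).1 M N b hMb hNb)
  refine ⟨hff, fun K a b hKa hKb hK => ?_⟩
  rcases le_or_gt a (b + 1) with h | h
  · obtain ⟨k, hk⟩ : ∃ k : ℕ, b + 1 = a + k := ⟨(b + 1 - a).toNat, by omega⟩
    exact exists_bounded_preimage (cP X).ι hff k K a b hk hKa hKb fun i => ⟨⟨_, hK i⟩, ⟨Iso.refl _⟩⟩
  · refine ⟨0, DerivedCategory.TStructure.t.isGE_of_isZero (isZero_zero _) a,
      DerivedCategory.TStructure.t.isLE_of_isZero (isZero_zero _) b,
      ⟨((cP X).ι.mapDerivedCategory.map_isZero (isZero_zero _)).iso ?_⟩⟩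
    exact DerivedCategory.TStructure.t.isZero K b a (by omega)

end Groth.Agent.SerreDerLib
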