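import Groth.Agent.SerreDerLib.CohMod
import Groth.Agent.TildeD.Homology

/-!
# Bounded below objects with cohomology in a coreflective abelian subcategory
-/

set_option autoImplicit false
set_option linter.style.haveILetI false
set_option backward.isDefEq.respectTransparency false

universe v v' u u'

open CategoryTheory Category Limits Pretriangulated
open scoped ZeroObject

attribute [local instance] HasDerivedCategory.standard

noncomputable section

namespace Groth.Agent.SerreDerLib

section

variable {B : Type u'} [Category.{v'} B] [Abelian B] [EnoughInjectives B] {A : Type u} [Category.{v} A] [Abelian A]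
  [EnoughInjectives A] (F : B ⥤ A) [F.Additive] [F.Full] [F.Faithful] [PreservesFiniteLimits F]
  [PreservesFiniteColimits F] [F.IsLeftAdjoint]

local notation "tA" => (DerivedCategory.TStructure.t : Triangulated.TStructure (DerivedCategory A))
local notation "tB" => (DerivedCategory.TStructure.t : Triangulated.TStructure (DerivedCategory B))

/-- The universal map from the image. -/
theorem exists_universal (K : DerivedCategory A) (a : ℤ) [K.IsGE a] :
    ∃ (J : DerivedCategory B) (c : F.mapDerivedCategory.obj J ⟶ K), J.IsGE a ∧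
      ∀ M : DerivedCategory B, Function.Bijective fun x : M ⟶ J => F.mapDerivedCategory.map x ≫ c := by
  let cs := ComplexShape.up ℤ
  let R := F.rightAdjoint
  let adj := Adjunction.ofIsLeftAdjoint F
  haveI : R.Additive := adj.right_adjoint_additive
  obtain ⟨K₀, hK₀, ⟨eK₀⟩⟩ := K.exists_iso_Q_obj_of_isGE a
  haveI := hK₀
  obtain ⟨L, hL, i, hi⟩ := CochainComplex.Plus.exists_quasiIso_injective ⟨K₀, ⟨a, inferInstance⟩⟩ a
  haveI : QuasiIso i.hom := hi
  let I : CochainComplex A ℤ := ((InjectiveObject.ι A).mapHomologicalComplex cs).obj L.obj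
  haveI : I.IsStrictlyGE a := inferInstance
  haveI : ∀ n, Injective (I.X n) := fun n => inferInstanceAs (Injective ((InjectiveObject.ι A).obj (L.obj.X n)))
  haveI := CochainComplex.isKInjective_of_injective I a
  let eK : DerivedCategory.Q.obj I ≅ K := (asIso (DerivedCategory.Q.map i.hom)).symm ≪≫ eK₀.symm
  let J₀ : CochainComplex B ℤ := (R.mapHomologicalComplex cs).obj I
  haveI : CochainComplex.IsStrictlyGE J₀ a := inferInstance
  haveI : ∀ n, Injective (J₀.X n) := fun n => adj.map_injective (I.X n) inferInstance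
  haveI := CochainComplex.isKInjective_of_injective J₀ a
  let c₀ : (F.mapHomologicalComplex cs).obj J₀ ⟶ I :=
    { f := fun n => adj.counit.app (I.X n)
      comm' := fun p q _ => (adj.counit.naturality (I.d p q)).symm }
  let e := F.mapDerivedCategoryFactors
  refine ⟨DerivedCategory.Q.obj J₀, e.hom.app J₀ ≫ DerivedCategory.Q.map c₀ ≫ eK.hom,
    (DerivedCategory.isGE_Q_obj_iff J₀ a).2 inferInstance, fun M => ?_⟩
  let M₀ := DerivedCategory.Q.objPreimage M
  let eM := DerivedCategory.Q.objObjPreimageIso M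
  let qB := DerivedCategory.quotientCompQhIso B
  let qA := DerivedCategory.quotientCompQhIso A
  let M₁ := (F.mapHomologicalComplex cs).obj M₀
  have sB := CochainComplex.IsKInjective.Qh_map_bijective ((HomotopyCategory.quotient B cs).obj M₀) J₀
  have sA := CochainComplex.IsKInjective.Qh_map_bijective ((HomotopyCategory.quotient A cs).obj M₁) I
  have surjB : ∀ x : DerivedCategory.Q.obj M₀ ⟶ DerivedCategory.Q.obj J₀, ∃ f, DerivedCategory.Q.map f = x := fun x => by
    obtain ⟨b, hb⟩ := sB.2 (qB.hom.app M₀ ≫ x ≫ qB.inv.app J₀)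
    obtain ⟨f, rfl⟩ := (HomotopyCategory.quotient B cs).map_surjective b
    refine ⟨f, ?_⟩
    rw [← cancel_epi (qB.hom.app M₀), ← qB.hom.naturality f]
    exact (congrArg (· ≫ qB.hom.app J₀) hb).trans (by simp)
  have surjA : ∀ y : DerivedCategory.Q.obj M₁ ⟶ DerivedCategory.Q.obj I, ∃ g, DerivedCategory.Q.map g = y := fun y => by
    obtain ⟨b, hb⟩ := sA.2 (qA.hom.app M₁ ≫ y ≫ qA.inv.app I)
    obtain ⟨g, rfl⟩ := (HomotopyCategory.quotient A cs).map_surjective b
    refine ⟨g, ?_⟩
    rw [← cancel_epi (qA.hom.app M₁), ← qA.hom.naturality g]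
    exact (congrArg (· ≫ qA.hom.app I) hb).trans (by simp)
  have formula : ∀ f : M₀ ⟶ J₀,
      F.mapDerivedCategory.map (eM.inv ≫ DerivedCategory.Q.map f) ≫ e.hom.app J₀ ≫ DerivedCategory.Q.map c₀ ≫ eK.hom =
      F.mapDerivedCategory.map eM.inv ≫ e.hom.app M₀ ≫
        DerivedCategory.Q.map ((F.mapHomologicalComplex cs).map f ≫ c₀) ≫ eK.hom := fun f => by
    rw [Functor.map_comp, Category.assoc]
    congr 1
    rw [← Category.assoc, F.mapDerivedCategoryFactors_hom_naturality f]
    simp [e]
    rfl
  constructor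
  · intro x x' hxx'
    obtain ⟨f, hf⟩ := surjB (eM.hom ≫ x)
    obtain ⟨f', hf'⟩ := surjB (eM.hom ≫ x')
    have hx : x = eM.inv ≫ DerivedCategory.Q.map f := by rw [hf, Iso.inv_hom_id_assoc]
    have hx' : x' = eM.inv ≫ DerivedCategory.Q.map f' := by rw [hf', Iso.inv_hom_id_assoc]
    subst hx hx'
    simp only [formula, cancel_epi, cancel_mono] at hxx'
    congr 1
    have h' : (HomotopyCategory.quotient A cs).map ((F.mapHomologicalComplex cs).map f ≫ c₀) =
        (HomotopyCategory.quotient A cs).map ((F.mapHomologicalComplex cs).map f' ≫ c₀) := by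
      apply sA.1
      rw [← cancel_mono (qA.hom.app I)]
      refine (qA.hom.naturality _).trans (Eq.trans ?_ (qA.hom.naturality _).symm)
      rw [hxx']
    let h := HomotopyCategory.homotopyOfEq _ _ h'
    have key : ∀ {p q : ℤ} (g : M₀.X p ⟶ J₀.X q),
        (adj.homEquiv _ _).symm g = F.map g ≫ adj.counit.app (I.X q) := fun g => adj.homEquiv_counit _ _ _
    have key2 : ∀ (X : B) (Y : A) (g : F.obj X ⟶ Y),
        F.map (adj.homEquiv X Y g) ≫ adj.counit.app Y = g := fun X Y g =>
      (adj.homEquiv_counit _ _ _).symm.trans ((adj.homEquiv X Y).symm_apply_apply g)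
    have key3 : ∀ (X : B) (Y Z : A) (g : F.obj X ⟶ Y) (d : Y ⟶ Z),
        F.map (adj.homEquiv X Y g) ≫ F.map (R.map d) ≫ adj.counit.app Z = g ≫ d := fun X Y Z g d => by
      rw [show F.map (R.map d) ≫ adj.counit.app Z = adj.counit.app Y ≫ d from adj.counit.naturality d,
        ← Category.assoc, key2]
    exact DerivedCategory.Q_map_eq_of_homotopy (C := B)
      { hom := fun p q => adj.homEquiv (M₀.X p) (I.X q) (h.hom p q)
        zero := fun p q hpq => by
          rw [h.zero p q hpq, adj.homEquiv_unit]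
          exact (congrArg (_ ≫ ·) (R.map_zero _ _)).trans comp_zero
        comm := fun p => (adj.homEquiv (M₀.X p) (I.X p)).symm.injective (by
          rw [key]
          refine (h.comm p).trans ?_
          rw [key]
          simp [dNext, prevD, c₀, J₀, key3]
          exact congrArg₂ (· + ·) (congrArg (_ ≫ ·) (key2 _ _ _).symm)
            ((congrArg (· ≫ _) (key2 _ _ _).symm).trans (Category.assoc _ _ _))) }
  · intro y
    obtain ⟨g, hg⟩ := surjA (e.inv.app M₀ ≫ F.mapDerivedCategory.map eM.hom ≫ y ≫ eK.inv)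
    let f : M₀ ⟶ J₀ :=
      { f := fun p => adj.homEquiv _ _ (g.f p)
        comm' := fun p q _ => by
          show adj.homEquiv _ _ (g.f p) ≫ R.map (I.d p q) = M₀.d p q ≫ adj.homEquiv _ _ (g.f q)
          rw [← adj.homEquiv_naturality_right, ← adj.homEquiv_naturality_left, g.comm]
          rfl }
    have hfg : (F.mapHomologicalComplex cs).map f ≫ c₀ = g := by
      ext p
      show F.map (adj.homEquiv _ _ (g.f p)) ≫ adj.counit.app (I.X p) = g.f p
      exact (adj.homEquiv_counit _ _ _).symm.trans ((adj.homEquiv (M₀.X p) (I.X p)).symm_apply_apply _)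
    refine ⟨eM.inv ≫ DerivedCategory.Q.map f, ?_⟩
    show F.mapDerivedCategory.map _ ≫ _ = y
    rw [formula, hfg, hg]
    simp [← Functor.map_comp_assoc]

/-- Bounded below objects with cohomology in the image are in the image. -/
theorem exists_plus_preimage (hF : ∀ J : B, Injective J → Injective (F.obj J))
    (K : DerivedCategory A) (a : ℤ) [K.IsGE a]
    (hH : ∀ i, ∃ H : B, Nonempty (F.obj H ≅ (DerivedCategory.homologyFunctor A i).obj K)) :
    ∃ M : DerivedCategory B, M.IsGE a ∧ Nonempty (F.mapDerivedCategory.obj M ≅ K) := by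
  obtain ⟨J, c, hJ, huniv⟩ := exists_universal F K a
  haveI := hJ
  let H := fun i => DerivedCategory.homologyFunctor A i
  have hff := fun M N : DerivedCategory B => fun b (hN : N.IsGE b) => bijective_mapDerived_of_injectives F hF M N b hN
  have hiso : ∀ i, IsIso ((H i).map c) := fun i => by
    rcases lt_or_ge i a with hia | hia
    · haveI hJ' : (F.mapDerivedCategory.obj J).IsGE a := by
        obtain ⟨J₀, hJ₀, ⟨eJ⟩⟩ := J.exists_iso_Q_obj_of_isGE a
        haveI := hJ₀
        haveI : CochainComplex.IsStrictlyGE ((F.mapHomologicalComplex (ComplexShape.up ℤ)).obj J₀) a := inferInstance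
        haveI : (tA).IsGE ((F.mapHomologicalComplex (ComplexShape.up ℤ) ⋙ DerivedCategory.Q).obj J₀) a :=
          (DerivedCategory.isGE_Q_obj_iff _ a).2 inferInstance
        exact (tA).isGE_of_iso (F.mapDerivedCategory.mapIso eJ ≪≫ F.mapDerivedCategoryFactors.app J₀).symm a
      exact ⟨⟨0, (DerivedCategory.isZero_of_isGE (F.mapDerivedCategory.obj J) a i hia).eq_of_src _ _,
        (DerivedCategory.isZero_of_isGE K a i hia).eq_of_src _ _⟩⟩
    let m := i + 2
    let L := ((tA).truncLT m).obj K
    let ι := ((tA).truncLTι m).app K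
    haveI : L.IsLE (i + 1) := (tA).isLE_truncLT_obj K m (i + 1) (by omega)
    haveI : L.IsGE a := (DerivedCategory.isGE_iff _ _).2 fun j hj => by
      haveI := DCohLib.isIso_homology_truncLTι K m j (by omega)
      exact (DerivedCategory.isZero_of_isGE K a j hj).of_iso (asIso ((H j).map ι))
    obtain ⟨k, hk⟩ : ∃ k : ℕ, i + 1 + 1 = a + k := ⟨(i + 2 - a).toNat, by omega⟩
    obtain ⟨ML, hMLge, hMLle, ⟨eL⟩⟩ := exists_bounded_preimage F
      (fun M N p q _ _ hN _ => hff M N p hN) k L a (i + 1) hk inferInstance inferInstance fun j => by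
        by_cases hj : j < m
        · haveI := DCohLib.isIso_homology_truncLTι K m j hj
          obtain ⟨H', ⟨e⟩⟩ := hH j
          exact ⟨H', ⟨e ≪≫ (asIso ((H j).map ι)).symm⟩⟩
        · exact ⟨0, ⟨(F.map_isZero (isZero_zero _)).iso (DerivedCategory.isZero_of_isLE L (i + 1) j (by omega))⟩⟩
    obtain ⟨ψ, hψ⟩ := (huniv ML).2 (eL.hom ≫ ι)
    have hψ' : F.mapDerivedCategory.map ψ ≫ c = eL.hom ≫ ι := hψ
    haveI := DCohLib.isIso_homology_truncLTι K m i (by omega)
    haveI : IsIso ((H i).map (F.mapDerivedCategory.map ψ) ≫ (H i).map c) := by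
      rw [← Functor.map_comp, hψ', Functor.map_comp]
      infer_instance
    let J' := ((tB).truncLT m).obj J
    let u := ((tB).truncLTι m).app J
    haveI : J'.IsLE (i + 1) := (tB).isLE_truncLT_obj J m (i + 1) (by omega)
    haveI hFJ' : (F.mapDerivedCategory.obj J').IsLE (i + 1) := by
      obtain ⟨J₁, hJ₁, ⟨eJ⟩⟩ := J'.exists_iso_Q_obj_of_isLE (i + 1)
      haveI := hJ₁
      haveI : CochainComplex.IsStrictlyLE ((F.mapHomologicalComplex (ComplexShape.up ℤ)).obj J₁) (i + 1) := inferInstance
      haveI : (tA).IsLE ((F.mapHomologicalComplex (ComplexShape.up ℤ) ⋙ DerivedCategory.Q).obj J₁) (i + 1) :=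
        (DerivedCategory.isLE_Q_obj_iff _ (i + 1)).2 inferInstance
      exact (tA).isLE_of_iso (F.mapDerivedCategory.mapIso eJ ≪≫ F.mapDerivedCategoryFactors.app J₁).symm (i + 1)
    haveI : (tA).IsGE (((tA).truncGE m).obj K) m := inferInstance
    obtain ⟨g, hg⟩ : ∃ g : F.mapDerivedCategory.obj J' ⟶ L, F.mapDerivedCategory.map u ≫ c = g ≫ ι :=
      Triangle.coyoneda_exact₂ _ ((tA).triangleLTGE_distinguished m K) _
        ((tA).zero _ (i + 1) m (by omega))
    haveI := hMLge
    obtain ⟨g', hg'⟩ := (hff J' ML a hMLge).2 (g ≫ eL.inv)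
    have hu : u = g' ≫ ψ := (huniv J').1 (by
      show F.mapDerivedCategory.map u ≫ c = F.mapDerivedCategory.map (g' ≫ ψ) ≫ c
      rw [Functor.map_comp, Category.assoc, hψ', show F.mapDerivedCategory.map g' = g ≫ eL.inv from hg', hg]
      simp)
    haveI : IsIso ((DerivedCategory.homologyFunctor B i).map u) := DCohLib.isIso_homology_truncLTι J m i (by omega)
    haveI : Epi ((DerivedCategory.homologyFunctor B i).map ψ) := by
      haveI : Epi ((DerivedCategory.homologyFunctor B i).map g' ≫ (DerivedCategory.homologyFunctor B i).map ψ) := by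
        rw [← Functor.map_comp, ← hu]
        infer_instance
      exact epi_of_epi ((DerivedCategory.homologyFunctor B i).map g') _
    haveI : Epi ((H i).map (F.mapDerivedCategory.map ψ)) := by
      obtain ⟨h⟩ : Nonempty (F.mapDerivedCategory ⋙ H i ≅ DerivedCategory.homologyFunctor B i ⋙ F) :=
        ⟨TildeD.nu F i⟩
      exact ((MorphismProperty.epimorphisms A).arrow_mk_iso_iff
        (((Functor.mapArrowFunctor _ _).mapIso h).app (Arrow.mk ψ))).2
          (inferInstanceAs (Epi (F.map ((DerivedCategory.homologyFunctor B i).map ψ))))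
    haveI : Mono ((H i).map (F.mapDerivedCategory.map ψ)) := mono_of_mono _ ((H i).map c)
    haveI : IsIso ((H i).map (F.mapDerivedCategory.map ψ)) := isIso_of_mono_of_epi _
    exact IsIso.of_isIso_comp_left ((H i).map (F.mapDerivedCategory.map ψ)) _
  haveI : IsIso c := (DerivedCategory.isIso_iff (C := A) (f := c)).2 hiso
  exact ⟨J, hJ, ⟨asIso c⟩⟩

end

end Groth.Agent.SerreDerLib
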