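import Groth.Agent.S1050

/-!
# A fully faithful exact functor onto a Serre class and bounded above derived categories
-/

set_option autoImplicit false
set_option linter.style.haveILetI false
set_option backward.isDefEq.respectTransparency false

universe w w' v v' u u'

open CategoryTheory Category Limits Pretriangulated HomologicalComplex

noncomputable section

namespace Groth.Agent.SerreDerLib

open Groth.Agent.S1050.S1050Aux (exists_resolution)

variable {A : Type u} [Category.{v} A] [Abelian A] {B : Type u'} [Category.{v'} B] [Abelian B]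
  {P : ObjectProperty A} [P.IsSerreClass] [P.IsClosedUnderKernels] [P.IsClosedUnderCokernels]
  [P.IsClosedUnderFiniteProducts] (ι : B ⥤ A) [ι.Additive] [ι.Full] [ι.Faithful]

theorem exists_resolution_of
    (hlift : ∀ (X Y : A) (π : X ⟶ Y), Epi π → P Y → ∃ (X' : A) (i : X' ⟶ X), Mono i ∧ P X' ∧ Epi (i ≫ π))
    {ι : B ⥤ A} [ι.Additive] [ι.Full] [ι.Faithful] (hess : ∀ X : A, P X → ∃ M : B, Nonempty (ι.obj M ≅ X))
    {K : CochainComplex A ℤ} (hK : ∀ n : ℤ, P (K.homology n)) (b : ℤ) [K.IsStrictlyLE b] :
    ∃ (M : CochainComplex B ℤ) (s : (ι.mapHomologicalComplex _).obj M ⟶ K), M.IsStrictlyLE b ∧ QuasiIso s := by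
  obtain ⟨M, s, hM, hs⟩ := exists_resolution hlift hK b
  choose N hN using hess
  let e : ∀ i, ι.obj (N _ (M.X i).property) ≅ (M.X i).obj := fun i => (hN _ (M.X i).property).some
  let M' : CochainComplex B ℤ :=
    { X := fun i => N _ (M.X i).property
      d := fun i j => ι.preimage ((e i).hom ≫ (M.d i j).hom ≫ (e j).inv)
      shape := fun i j h => ι.map_injective (by simp [M.shape i j h])
      d_comp_d' := fun i j k _ _ => ι.map_injective (by
        have h : (M.d i j).hom ≫ (M.d j k).hom = 0 := congrArg (fun f => f.hom) (M.d_comp_d i j k)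
        simp [reassoc_of% h]) }
  let φ : (ι.mapHomologicalComplex _).obj M' ≅ (P.ι.mapHomologicalComplex _).obj M :=
    HomologicalComplex.Hom.isoOfComponents e fun i j _ => by simp [M']
  haveI := hs
  haveI := hM
  refine ⟨M', φ.hom ≫ s, ?_, inferInstance⟩
  rw [CochainComplex.isStrictlyLE_iff]
  intro i hi
  exact IsZero.of_full_of_faithful_of_isZero ι _
    ((P.ι.map_isZero (M.isZero_of_isStrictlyLE b i hi)).of_iso (e i))

omit [P.IsSerreClass] [P.IsClosedUnderKernels] [P.IsClosedUnderCokernels] [P.IsClosedUnderFiniteProducts] in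
theorem hom_lift {M N : CochainComplex B ℤ}
    (f : (ι.mapHomologicalComplex _).obj M ⟶ (ι.mapHomologicalComplex _).obj N) :
    ∃ g : M ⟶ N, (ι.mapHomologicalComplex _).map g = f := (ι.mapHomologicalComplex _).map_surjective f

omit [P.IsSerreClass] [P.IsClosedUnderKernels] [P.IsClosedUnderCokernels] [P.IsClosedUnderFiniteProducts] in
theorem homotopy_lift {M N : CochainComplex B ℤ} (f g : M ⟶ N)
    (h : Homotopy ((ι.mapHomologicalComplex _).map f) ((ι.mapHomologicalComplex _).map g)) :
    Nonempty (Homotopy f g) :=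
  ⟨{ hom := fun i j => ι.preimage (h.hom i j)
     zero := fun i j hij => ι.map_injective (by rw [ι.map_preimage, ι.map_zero]; exact h.zero i j hij)
     comm := fun i => ι.map_injective (by
       rw [show ι.map (f.f i) = ((ι.mapHomologicalComplex _).map f).f i from rfl, h.comm i]
       simp [dNext, prevD]) }⟩

variable [PreservesFiniteLimits ι] [PreservesFiniteColimits ι] [HasDerivedCategory.{w} A] [HasDerivedCategory.{w'} B]

theorem derivedMinus (hmem : ∀ M : B, P (ι.obj M)) (hess : ∀ X : A, P X → ∃ M : B, Nonempty (ι.obj M ≅ X))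
    (hlift : ∀ (X Y : A) (π : X ⟶ Y), Epi π → P Y → ∃ (X' : A) (i : X' ⟶ X), Mono i ∧ P X' ∧ Epi (i ≫ π)) :
    (∀ (M N : DerivedCategory B) (b : ℤ), M.IsLE b → N.IsLE b →
      Function.Bijective (fun φ : M ⟶ N => ι.mapDerivedCategory.map φ)) ∧
    ∀ (K : DerivedCategory A) (b : ℤ), K.IsLE b → (∀ n : ℤ, P ((DerivedCategory.homologyFunctor A n).obj K)) →
      ∃ M : DerivedCategory B, M.IsLE b ∧ Nonempty (ι.mapDerivedCategory.obj M ≅ K) := by
  let G : CochainComplex B ℤ ⥤ CochainComplex A ℤ :=
    ι.mapHomologicalComplex (ComplexShape.up ℤ)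
  let e := ι.mapDerivedCategoryFactors
  have hP : ∀ (M : CochainComplex B ℤ) (n : ℤ), P ((G.obj M).homology n) :=
    fun M n => P.prop_of_iso ((M.sc n).mapHomologyIso ι).symm (hmem (M.homology n))
  have hP' : ∀ {K L : CochainComplex A ℤ} (s : K ⟶ L), IsIso (DerivedCategory.Q.map s) →
      (∀ n, P (L.homology n)) → ∀ n, P (K.homology n) := fun {K L} s hs hL n => by
    haveI := (DerivedCategory.isIso_Q_map_iff_quasiIso (φ := s)).1 hs
    exact P.prop_of_iso (isoOfQuasiIsoAt s n).symm (hL n)
  have reflect : ∀ {M N : CochainComplex B ℤ} (s : M ⟶ N), QuasiIso (G.map s) →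
      IsIso (DerivedCategory.Q.map s) := fun s hs => by
    haveI := (quasiIso_map_iff_of_preservesHomology s ι).1 hs
    infer_instance
  have homQ : ∀ {M N : CochainComplex B ℤ} (f : M ⟶ N), Nonempty (Homotopy f 0) →
      DerivedCategory.Q.map f = 0 := fun {M N} f ⟨h⟩ => by
    have e1 := HomotopyCategory.eq_of_homotopy _ _ h
    rw [Functor.map_zero] at e1
    rw [← NatIso.naturality_1 (DerivedCategory.quotientCompQhIso B) f]
    simp [e1]
  refine ⟨fun M₀ N₀ b hM hN => ?_, fun K₀ b hK₀ hH => ?_⟩
  · obtain ⟨M, hMs, ⟨eM⟩⟩ := M₀.exists_iso_Q_obj_of_isLE b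
    obtain ⟨N, hNs, ⟨eN⟩⟩ := N₀.exists_iso_Q_obj_of_isLE b
    haveI := hMs
    haveI : CochainComplex.IsStrictlyLE (G.obj M) b := by
      rw [CochainComplex.isStrictlyLE_iff]
      intro i hi
      exact ι.map_isZero (M.isZero_of_isStrictlyLE b i hi)
    have inj : ∀ ψ : DerivedCategory.Q.obj M ⟶ DerivedCategory.Q.obj N,
        ι.mapDerivedCategory.map ψ = 0 → ψ = 0 := by
      intro ψ hψ
      obtain ⟨M', hM', s, hs, g, rfl⟩ := DerivedCategory.right_fac_of_isStrictlyLE ψ b
      have hg : ι.mapDerivedCategory.map (DerivedCategory.Q.map g) = 0 := by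
        have := congrArg (ι.mapDerivedCategory.map (DerivedCategory.Q.map s) ≫ ·) hψ
        simpa [← Functor.map_comp_assoc, ← Functor.map_comp] using this
      have hGg : DerivedCategory.Q.map (G.map g) = 0 :=
        (NatIso.naturality_1 e g).symm.trans (by simp [hg])
      have hq : DerivedCategory.Qh.map ((HomotopyCategory.quotient A _).map (G.map g)) =
          DerivedCategory.Qh.map 0 := by
        have := NatIso.naturality_2 (DerivedCategory.quotientCompQhIso A) (G.map g)
        simp only [hGg, zero_comp, comp_zero] at this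
        rw [Functor.map_zero]
        exact this.symm
      obtain ⟨Z, u', hu, huz⟩ := (MorphismProperty.map_eq_iff_precomp DerivedCategory.Qh
        (HomotopyCategory.quasiIso A (ComplexShape.up ℤ)) _ _).1 hq
      obtain ⟨K, rfl⟩ := HomotopyCategory.quotient_obj_surjective Z
      obtain ⟨u₀, rfl⟩ := (HomotopyCategory.quotient A (ComplexShape.up ℤ)).map_surjective u'
      rw [← DerivedCategory.isIso_Qh_map_iff] at hu
      have hQu : IsIso (DerivedCategory.Q.map u₀) :=
        (NatIso.isIso_map_iff (DerivedCategory.quotientCompQhIso A) u₀).1 hu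
      haveI : CochainComplex.IsStrictlyLE (G.obj M') b := by
        rw [CochainComplex.isStrictlyLE_iff]
        intro i hi
        exact ι.map_isZero (M'.isZero_of_isStrictlyLE b i hi)
      haveI : CochainComplex.IsLE K b := by
        rw [← DerivedCategory.isLE_Q_obj_iff]
        exact DerivedCategory.TStructure.t.isLE_of_iso (asIso (DerivedCategory.Q.map u₀)).symm b
      have hPK := hP' ((CochainComplex.ιTruncLE K b) ≫ u₀) (by rw [Functor.map_comp]; infer_instance) (hP M')
      obtain ⟨M'', t, -, ht⟩ := exists_resolution_of hlift hess hPK b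
      obtain ⟨w, hw⟩ := hom_lift ι (t ≫ (CochainComplex.ιTruncLE K b) ≫ u₀)
      haveI : IsIso (DerivedCategory.Q.map w) := reflect w (by
        show QuasiIso ((ι.mapHomologicalComplex _).map w)
        rw [hw, ← DerivedCategory.isIso_Q_map_iff_quasiIso, Functor.map_comp, Functor.map_comp]
        infer_instance)
      have h0 : DerivedCategory.Q.map (w ≫ g) = 0 := by
        refine homQ _ (homotopy_lift ι _ _ (HomotopyCategory.homotopyOfEq _ _ ?_))
        rw [Functor.map_zero, Functor.map_zero, Functor.map_comp, hw]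
        simp only [Category.assoc, Functor.map_comp]
        rw [huz]
        simp
      rw [Functor.map_comp] at h0
      have hg0 : DerivedCategory.Q.map g = 0 := by
        rw [← cancel_epi (DerivedCategory.Q.map w), comp_zero]; exact h0
      simp [hg0]
    constructor
    · intro ψ₁ ψ₂ h
      have := inj (eM.inv ≫ (ψ₁ - ψ₂) ≫ eN.hom) (by simp [Functor.map_sub, h])
      rw [← sub_eq_zero, ← cancel_epi eM.inv, ← cancel_mono eN.hom, Category.assoc, this]
      simp
    · intro φ
      obtain ⟨K, hK, s, hs, g, hfac⟩ := DerivedCategory.right_fac_of_isStrictlyLE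
        (e.inv.app M ≫ ι.mapDerivedCategory.map eM.inv ≫ φ ≫
          ι.mapDerivedCategory.map eN.hom ≫ e.hom.app N) b
      obtain ⟨M', t, -, ht⟩ := exists_resolution_of hlift hess (hP' s hs (hP M)) b
      obtain ⟨s', hs'⟩ := hom_lift ι (t ≫ s)
      obtain ⟨g', hg'⟩ := hom_lift ι (t ≫ g)
      haveI : IsIso (DerivedCategory.Q.map s') := reflect s' (by
        show QuasiIso ((ι.mapHomologicalComplex _).map s')
        rw [hs', ← DerivedCategory.isIso_Q_map_iff_quasiIso, Functor.map_comp]
        infer_instance)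
      refine ⟨eM.hom ≫ inv (DerivedCategory.Q.map s') ≫ DerivedCategory.Q.map g' ≫ eN.inv, ?_⟩
      have key : ι.mapDerivedCategory.map (inv (DerivedCategory.Q.map s') ≫ DerivedCategory.Q.map g') =
          ι.mapDerivedCategory.map eM.inv ≫ φ ≫ ι.mapDerivedCategory.map eN.hom := by
        rw [Functor.map_comp, Functor.map_inv, IsIso.inv_comp_eq, ← cancel_mono (e.hom.app N)]
        have n1 : ι.mapDerivedCategory.map (DerivedCategory.Q.map g') ≫ e.hom.app N =
            e.hom.app M' ≫ DerivedCategory.Q.map (G.map g') :=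
          ι.mapDerivedCategoryFactors_hom_naturality g'
        have n2 : ι.mapDerivedCategory.map (DerivedCategory.Q.map s') =
            e.hom.app M' ≫ DerivedCategory.Q.map (G.map s') ≫ e.inv.app M := by
          have := ι.mapDerivedCategoryFactors_hom_naturality s'
          rw [← Category.assoc, ← this]
          simp [e]
        have hG1 : G.map g' = t ≫ g := hg'
        have hG2 : G.map s' = t ≫ s := hs'
        rw [n1, n2, hG1, hG2]
        simp only [Category.assoc, Functor.map_comp]
        rw [hfac, IsIso.hom_inv_id_assoc]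
      show ι.mapDerivedCategory.map _ = φ
      rw [Functor.map_comp, ← Category.assoc (inv _), Functor.map_comp, key]
      simp [← Functor.map_comp, ← Functor.map_comp_assoc]
  · obtain ⟨K, hKs, ⟨eK⟩⟩ := K₀.exists_iso_Q_obj_of_isLE b
    haveI := hKs
    have hPK : ∀ n, P (K.homology n) := fun n =>
      P.prop_of_iso ((DerivedCategory.homologyFunctor A n).mapIso eK ≪≫
        (DerivedCategory.homologyFunctorFactors A n).app K) (hH n)
    obtain ⟨M, t, hM, ht⟩ := exists_resolution_of hlift hess hPK b
    haveI := hM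
    haveI := ht
    exact ⟨DerivedCategory.Q.obj M, inferInstance,
      ⟨e.app M ≪≫ asIso (DerivedCategory.Q.map t) ≪≫ eK.symm⟩⟩

end Groth.Agent.SerreDerLib
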