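import Groth.Agent.FibDescLib.DerivedComp
import Mathlib.Algebra.Homology.DerivedCategory.DerivabilityStructureInjectives

/-!
# Exact fully faithful functors preserving injectives
-/

set_option autoImplicit false
set_option linter.style.haveILetI false
set_option backward.isDefEq.respectTransparency false

universe w w' v v' u u'

open CategoryTheory Category Limits Pretriangulated

noncomputable section

namespace Groth.Agent.SerreDerLib

variable {B : Type u'} [Category.{v'} B] [Abelian B] {A : Type u} [Category.{v} A] [Abelian A]
  [HasDerivedCategory.{w'} B] [HasDerivedCategory.{w} A]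
  (F : B ⥤ A) [F.Additive] [F.Full] [F.Faithful] [PreservesFiniteLimits F] [PreservesFiniteColimits F]

theorem bijective_mapDerived_of_injectives [EnoughInjectives B] (hF : ∀ J : B, Injective J → Injective (F.obj J))
    (M N : DerivedCategory B) (a : ℤ) (hN : N.IsGE a) :
    Function.Bijective fun φ : M ⟶ N => F.mapDerivedCategory.map φ := by
  let c := ComplexShape.up ℤ
  obtain ⟨N₀, hN₀, ⟨eN₀⟩⟩ := N.exists_iso_Q_obj_of_isGE a
  haveI := hN₀
  obtain ⟨L, hL, i, hi⟩ := CochainComplex.Plus.exists_quasiIso_injective ⟨N₀, ⟨a, inferInstance⟩⟩ a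
  haveI : QuasiIso i.hom := hi
  let I : CochainComplex B ℤ := ((InjectiveObject.ι B).mapHomologicalComplex c).obj L.obj
  haveI : I.IsStrictlyGE a := inferInstance
  haveI : ∀ n, Injective (I.X n) := fun n => inferInstanceAs (Injective ((InjectiveObject.ι B).obj (L.obj.X n)))
  haveI := CochainComplex.isKInjective_of_injective I a
  let I' := (F.mapHomologicalComplex c).obj I
  haveI : CochainComplex.IsStrictlyGE I' a := inferInstance
  haveI : ∀ n, Injective (I'.X n) := fun n => hF _ inferInstance
  haveI := CochainComplex.isKInjective_of_injective I' a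
  let eM := (DerivedCategory.Q.objObjPreimageIso M).symm
  let K := DerivedCategory.Q.objPreimage M
  let eN : N ≅ DerivedCategory.Q.obj I := eN₀ ≪≫ asIso (DerivedCategory.Q.map i.hom)
  let qB := DerivedCategory.quotientCompQhIso B
  let qA := DerivedCategory.quotientCompQhIso A
  let e := F.mapDerivedCategoryFactors
  let K' := (F.mapHomologicalComplex c).obj K
  have sB := CochainComplex.IsKInjective.Qh_map_bijective ((HomotopyCategory.quotient B c).obj K) I
  have sA := CochainComplex.IsKInjective.Qh_map_bijective ((HomotopyCategory.quotient A c).obj K') I'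
  have nat : ∀ f : K ⟶ I, F.mapDerivedCategory.map (DerivedCategory.Q.map f) =
      e.hom.app K ≫ DerivedCategory.Q.map ((F.mapHomologicalComplex c).map f) ≫ e.inv.app I := fun f => by
    rw [← Category.assoc, ← F.mapDerivedCategoryFactors_hom_naturality f]
    simp [e]
  have surjB : ∀ x : DerivedCategory.Q.obj K ⟶ DerivedCategory.Q.obj I, ∃ f, DerivedCategory.Q.map f = x := fun x => by
    obtain ⟨b, hb⟩ := sB.2 (qB.hom.app K ≫ x ≫ qB.inv.app I)
    obtain ⟨f, rfl⟩ := (HomotopyCategory.quotient B c).map_surjective b
    refine ⟨f, ?_⟩
    rw [← cancel_epi (qB.hom.app K), ← qB.hom.naturality f]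
    exact (congrArg (· ≫ qB.hom.app I) hb).trans (by simp)
  have key : Function.Bijective fun x : DerivedCategory.Q.obj K ⟶ DerivedCategory.Q.obj I =>
      F.mapDerivedCategory.map x := by
    constructor
    · intro x y hxy
      obtain ⟨f, rfl⟩ := surjB x
      obtain ⟨g, rfl⟩ := surjB y
      simp only [nat, cancel_epi, cancel_mono] at hxy
      have h' : (HomotopyCategory.quotient A c).map ((F.mapHomologicalComplex c).map f) =
          (HomotopyCategory.quotient A c).map ((F.mapHomologicalComplex c).map g) := by
        apply sA.1
        rw [← cancel_mono (qA.hom.app I')]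
        refine (qA.hom.naturality _).trans (Eq.trans ?_ (qA.hom.naturality _).symm)
        rw [hxy]
      let h := HomotopyCategory.homotopyOfEq _ _ h'
      exact DerivedCategory.Q_map_eq_of_homotopy (C := B)
        { hom := fun p q => F.preimage (h.hom p q)
          zero := fun p q hpq => F.map_injective (by rw [F.map_preimage, F.map_zero]; exact h.zero p q hpq)
          comm := fun p => F.map_injective (by
            rw [show F.map (f.f p) = ((F.mapHomologicalComplex c).map f).f p from rfl, h.comm p]
            simp [dNext, prevD]
            rfl) }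
    · intro y
      obtain ⟨b, hb⟩ := sA.2 (qA.hom.app K' ≫ (e.inv.app K ≫ y ≫ e.hom.app I) ≫ qA.inv.app I')
      obtain ⟨b, rfl⟩ := (HomotopyCategory.quotient A c).map_surjective b
      obtain ⟨f, rfl⟩ := (F.mapHomologicalComplex c).map_surjective b
      refine ⟨DerivedCategory.Q.map f, ?_⟩
      have h2 : DerivedCategory.Q.map ((F.mapHomologicalComplex c).map f) = e.inv.app K ≫ y ≫ e.hom.app I := by
        rw [← cancel_epi (qA.hom.app K'), ← qA.hom.naturality]
        exact (congrArg (· ≫ qA.hom.app I') hb).trans (by simp; exact congrArg (y ≫ ·) (Category.comp_id _))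
      show F.mapDerivedCategory.map (DerivedCategory.Q.map f) = y
      rw [nat, h2]
      simp only [Category.assoc, Iso.hom_inv_id_app_assoc, Iso.hom_inv_id_app]
      exact Category.comp_id _
  have hfun : (fun φ : M ⟶ N => F.mapDerivedCategory.map φ) =
      ((F.mapDerivedCategory.mapIso eM).homCongr (F.mapDerivedCategory.mapIso eN)).symm ∘
        (fun x : DerivedCategory.Q.obj K ⟶ DerivedCategory.Q.obj I => F.mapDerivedCategory.map x) ∘
        (eM.homCongr eN) := funext fun φ => by
    simp only [Function.comp_apply, Iso.homCongr, Equiv.coe_fn_mk, Equiv.coe_fn_symm_mk, Functor.mapIso_hom,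
      Functor.mapIso_inv, ← Functor.map_comp]
    simp
  rw [hfun]
  exact (Equiv.bijective _).comp (key.comp (Equiv.bijective _))

end Groth.Agent.SerreDerLib
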